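import Mathlib.Algebra.Homology.Opposite
import Mathlib.Algebra.Homology.Homotopy
import Mathlib.AlgebraicTopology.ExtraDegeneracy
import Mathlib.CategoryTheory.Sites.SheafCohomology.Cech
import Mathlib.Topology.Category.TopCat.Opens
import Mathlib.Algebra.Category.Grp.Limits
import Mathlib.Algebra.Category.Grp.Preadditive

/-! # Čech complexes of families containing their union -/

universe w v u

open CategoryTheory CategoryTheory.Limits Opposite AlgebraicTopology Simplicial

namespace GrothLib.CechExtra25

section Unop

variable {ι : Type*} {c : ComplexShape ι} {V : Type u} [Category.{v} V] [Preadditive V]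
  {K L : HomologicalComplex Vᵒᵖ c}

/-- A morphism of complexes in `Vᵒᵖ`, read in `V`. -/
@[simps]
def unopHom (f : K ⟶ L) : L.unop ⟶ K.unop where
  f i := (f.f i).unop
  comm' i j _ := by exact congrArg Quiver.Hom.unop (f.comm j i).symm

/-- Homotopies can be read in the opposite category. -/
def unopHomotopy {f g : K ⟶ L} (h : Homotopy f g) : Homotopy (unopHom f) (unopHom g) where
  hom i j := (h.hom j i).unop
  zero i j hij := by rw [h.zero j i hij, unop_zero]; rfl
  comm i := by
    simp only [dNext, prevD, AddMonoidHom.mk'_apply, unopHom_f]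
    rw [h.comm i, unop_add, unop_add, dNext, prevD]
    simp only [AddMonoidHom.mk'_apply, unop_comp]
    rw [add_comm (_ ≫ _) (_ ≫ _)]
    rfl

/-- A homotopy equivalence of complexes in `Vᵒᵖ` gives one in `V`. -/
def unopHomotopyEquiv (e : HomotopyEquiv K L) : HomotopyEquiv L.unop K.unop where
  hom := unopHom e.hom
  inv := unopHom e.inv
  homotopyHomInvId := (Homotopy.ofEq (by ext; exact rfl)).trans ((unopHomotopy e.homotopyInvHomId).trans
    (Homotopy.ofEq (by ext; exact rfl)))
  homotopyInvHomId := (Homotopy.ofEq (by ext; exact rfl)).trans ((unopHomotopy e.homotopyHomInvId).trans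
    (Homotopy.ofEq (by ext; exact rfl)))

end Unop

section Cech

variable {P : Type u} [Category.{v} P] [Quiver.IsThin P] [HasFiniteProducts P]

theorem homExt {A B : FormalCoproduct.{w} P} {a b : A ⟶ B} (h : ∀ x, a.f x = b.f x) : a = b := by
  obtain ⟨af, aφ⟩ := a
  obtain ⟨bf, bφ⟩ := b
  obtain rfl : af = bf := funext h
  congr 1
  funext x
  exact Subsingleton.elim _ _

variable {ι : Type w} (U : ι → P) {V : P} (hV : ∀ j, U j ⟶ V)

/-- The Čech object augmented to an object receiving all members. -/
noncomputable def augCech : SimplicialObject.Augmented (FormalCoproduct.{w} P) where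
  left := (FormalCoproduct.mk _ U).cech
  right := ⟨PUnit.{w + 1}, fun _ => V⟩
  hom :=
    { app := fun n =>
        { f := fun _ => PUnit.unit
          φ := fun x => Pi.π (U ∘ x) (0 : Fin (n.unop.len + 1)) ≫ hV _ }
      naturality := fun _ _ _ => homExt fun _ => rfl }

/-- The extra degeneracy given by a member equal to the target of the augmentation. -/
noncomputable def augCechExtraDegeneracy {i₀ : ι} (d : V ⟶ U i₀) :
    (augCech U hV).ExtraDegeneracy where
  s' :=
    { f := fun _ _ => i₀
      φ := fun _ => Pi.lift fun _ => d }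
  s n :=
    { f := fun x => Fin.cons i₀ (show Fin (n + 1) → ι from x)
      φ := fun x => Pi.lift fun k => Fin.cases
        (motive := fun k => (∏ᶜ fun t : Fin (n + 1) => U (x t)) ⟶
          U (Fin.cons (α := fun _ => ι) i₀ (show Fin (n + 1) → ι from x) k))
        (Pi.π (fun t : Fin (n + 1) => U (x t)) 0 ≫ hV _ ≫ d)
        (fun t => Pi.π (fun t : Fin (n + 1) => U (x t)) t) k }
  s'_comp_ε := homExt fun _ => rfl
  s₀_comp_δ₁ := homExt fun x => funext fun (k : Fin 1) => by
    fin_cases k
    rfl
  s_comp_δ₀ n := homExt fun x => funext fun (k : Fin (n + 1)) => by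
    change Fin.cons (α := fun _ => ι) i₀ (show Fin (n + 1) → ι from x) ((0 : Fin (n + 2)).succAbove k) =
      (show Fin (n + 1) → ι from x) k
    rw [Fin.succAbove_zero, Fin.cons_succ]
  s_comp_δ n i := homExt fun x => funext fun (k : Fin (n + 2)) => by
    change Fin.cons (α := fun _ => ι) i₀ (show Fin (n + 2) → ι from x) (i.succ.succAbove k) =
      Fin.cons (α := fun _ => ι) i₀ ((show Fin (n + 2) → ι from x) ∘ i.succAbove) k
    cases k using Fin.cases with
    | zero => rw [Fin.succ_succAbove_zero, Fin.cons_zero, Fin.cons_zero]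
    | succ k => rw [Fin.succ_succAbove_succ, Fin.cons_succ, Fin.cons_succ, Function.comp_apply]
  s_comp_σ n i := homExt fun x => funext fun (k : Fin (n + 3)) => by
    change Fin.cons (α := fun _ => ι) i₀ (show Fin (n + 1) → ι from x) (i.succ.predAbove k) =
      Fin.cons (α := fun _ => ι) i₀ ((show Fin (n + 1) → ι from x) ∘ i.predAbove) k
    cases k using Fin.cases with
    | zero => simp
    | succ k => rw [Fin.succ_predAbove_succ, Fin.cons_succ, Fin.cons_succ, Function.comp_apply]

universe v' u'

variable {A : Type u'} [Category.{v'} A] [Preadditive A] [HasProducts.{w} A] [HasZeroObject A] (F : Pᵒᵖ ⥤ A)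

/-- The presheaf `F`, evaluated on formal coproducts, with values in the opposite category. -/
noncomputable abbrev evalFC : FormalCoproduct.{w} P ⥤ Aᵒᵖ :=
  ((FormalCoproduct.evalOp.{w} P A).obj F).rightOp

theorem altD_unop (n : ℕ) :
    ((AlternatingFaceMapComplex.obj ((FormalCoproduct.mk _ U).cech ⋙ evalFC F)).d (n + 1) n).unop =
      ((cechComplexFunctor.{w} (A := A) U).obj F).d n (n + 1) := by
  change _ = (AlternatingCofaceMapComplex.obj
    ((FormalCoproduct.cosimplicialObjectFunctor.{w} (A := A) (FormalCoproduct.mk _ U).cech).obj F)).d n (n + 1)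
  rw [AlternatingFaceMapComplex.obj_d_eq]
  refine Eq.trans ?_ (CochainComplex.of_d (fun m => (((FormalCoproduct.cosimplicialObjectFunctor.{w} (A := A)
      (FormalCoproduct.mk _ U).cech).obj F).obj (SimplexCategory.mk m))) (AlternatingCofaceMapComplex.objD _) n).symm
  rw [AlternatingCofaceMapComplex.objD, unop_sum]
  exact Finset.sum_congr rfl fun i _ => unop_zsmul _ _ _

/-- The Čech complex read as the unop of an alternating face map complex. -/
noncomputable def cechIsoUnop :
    (AlternatingFaceMapComplex.obj ((FormalCoproduct.mk _ U).cech ⋙ evalFC F)).unop ≅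
      ((cechComplexFunctor.{w} (A := A) U).obj F) :=
  HomologicalComplex.Hom.isoOfComponents (fun _ => Iso.refl _) fun i j hij => by
    obtain rfl : i + 1 = j := hij
    exact (Category.id_comp _).trans ((altD_unop U F i).symm.trans (Category.comp_id _).symm)

/-- The value of a formal coproduct with one member. -/
noncomputable def pointIso : unop ((evalFC.{w} F).obj ⟨PUnit.{w + 1}, fun _ => V⟩) ≅ F.obj (op V) where
  hom := Pi.π (fun _ : PUnit.{w + 1} => F.obj (op V)) PUnit.unit
  inv := Pi.lift fun _ => 𝟙 _
  hom_inv_id := Pi.hom_ext _ _ fun ⟨⟩ => (Category.assoc _ _ _).trans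
    (((congrArg (_ ≫ ·) (Pi.lift_π _ _)).trans (Category.comp_id _)).trans (Category.id_comp _).symm)
  inv_hom_id := Pi.lift_π _ _

/-- A single complex in degree zero, read in the opposite category. -/
noncomputable def singleIsoUnop (Y : Aᵒᵖ) {W : A} (e : unop Y ≅ W) :
    ((ChainComplex.single₀ Aᵒᵖ).obj Y).unop ≅ (CochainComplex.single₀ A).obj W :=
  HomologicalComplex.Hom.isoOfComponents
    (fun n => match n with
      | 0 => e
      | n + 1 => IsZero.iso (HomologicalComplex.isZero_single_obj_X _ _ _ _ (Nat.succ_ne_zero n)).unop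
          (HomologicalComplex.isZero_single_obj_X _ _ _ _ (Nat.succ_ne_zero n)))
    fun i j hij => by
      obtain rfl : i + 1 = j := hij
      exact IsZero.eq_of_tgt (HomologicalComplex.isZero_single_obj_X _ _ _ _ (Nat.succ_ne_zero i)) _ _

/-- The Čech complex of a family with a member equal to the target of the augmentation. -/
noncomputable def cechHomotopyEquiv {i₀ : ι} (d : V ⟶ U i₀) :
    HomotopyEquiv ((CochainComplex.single₀ A).obj (F.obj (op V))) ((cechComplexFunctor.{w} (A := A) U).obj F) :=
  (HomotopyEquiv.ofIso (singleIsoUnop _ (pointIso F)).symm).trans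
    ((unopHomotopyEquiv ((augCechExtraDegeneracy U hV d).map (evalFC.{w} F)).homotopyEquiv).trans
      (HomotopyEquiv.ofIso (cechIsoUnop U F)))

end Cech

end GrothLib.CechExtra25
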